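import Cfsg.Agent.H368.NB.Sq
import Cfsg.Agent.H653.CycFinal
import Cfsg.Agent.H653.CycHeight
import Cfsg.Agent.S4652
import Cfsg.Agent.S0919
import Cfsg.Agent.S0936
import Cfsg.Agent.Prune
set_option linter.all false
prune_inst 0x7f00000000000000000000000000000000000000000000000000000000000000000000000000000000000000000000000000000000000000000000000000000000000000000000000000000000000000003fffffffffffffffffffffffffffbeffbdffffffff
open scoped Cfsg.Agent.FastGrp

/-!
# Cyclic Sylow `p`-subgroups and Itô–Michler give a nonprincipal `p`-block (S5002, S5003)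

The heights in the principal block are zero (helper653, S4696).
-/

set_option autoImplicit false

open Cfsg

namespace Cfsg.Agent.H368.NBSq

open Cfsg.Agent.H7.NBp Cfsg.Agent Subgroup

universe u

/-- The degrees in the principal block are prime to `p` if the Sylow `p`-subgroups are cyclic. -/
theorem not_dvd_degree_of_cyclic {G : Type u} [Group G] [Finite G] {p : ℕ} [hp : Fact p.Prime] {M : Ideal AlgInt}
    (hM : IsPModular p M) (P : Sylow p G) (hcyc : IsCyclic (P : Subgroup G)) {χ : IrrCharacter G}
    (hχ : χ ∈ principalBlock M G) : ¬ p ∣ charDegree (χ : G → ℂ) := by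
  classical
  have := Fintype.ofFinite G
  have hMp := Blocks.Local.isPrime_of_isPModular hM
  obtain ⟨n, hn⟩ := IsPGroup.iff_card.mp P.2
  have hzero : blockHeight p (principalBlock M G) (χ : G → ℂ) = 0 → ¬ p ∣ charDegree (χ : G → ℂ) := by
    intro h4
    rw [blockHeight, sInf_principal hM, Nat.sub_zero] at h4
    intro h2
    have h5 := (hp.out.dvd_iff_one_le_factorization (Blocks.Basic.charDegree_pos χ.2).ne').1 h2
    omega
  rcases Nat.eq_zero_or_pos n with hn0 | hn0
  · -- `p ∤ |G|`
    intro h
    have h1 : p ∣ Nat.card G := h.trans (Blocks.Knorr.charDegree_dvd χ.2)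
    have h2 : Nat.card (P : Subgroup G) = p ^ (Nat.card G).factorization p := P.card_eq_multiplicity
    rw [hn, hn0] at h2
    have h3 := (hp.out.dvd_iff_one_le_factorization (Nat.card_pos (α := G)).ne').1 h1
    have h4 := Nat.pow_right_injective hp.out.two_le h2
    omega
  apply hzero
  have hcomm : ∀ x ∈ (P : Subgroup G), ∀ y ∈ (P : Subgroup G), x * y = y * x := by
    intro x hx y hy
    have := (IsCyclic.commGroup (α := (P : Subgroup G))).mul_comm ⟨x, hx⟩ ⟨y, hy⟩
    exact congrArg Subtype.val this
  have hPC : (P : Subgroup G) ≤ centralizer ((P : Subgroup G) : Set G) := fun x hx =>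
    mem_centralizer_iff.2 fun y hy => hcomm y hy x hx
  have hBD : IsDefectGroup p M (principalBlock M G) (P : Subgroup G) := (S4652.result p M hM _).2 ⟨P, rfl⟩
  have hb : IsPBlock M (principalBlock M (centralizer ((P : Subgroup G) : Set G))) :=
    Blocks.PrincipalSection.isPBlock_principalBlock
  have hdef : InducedBlockDefined M (centralizer ((P : Subgroup G) : Set G))
      (principalBlock M (centralizer ((P : Subgroup G) : Set G))) :=
    S0919.result p M hM (P : Subgroup G) _ P.2 hPC le_rfl (centralizer_le_normalizer _) _ hb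
  have hind : IsInducedBlock M (centralizer ((P : Subgroup G) : Set G))
      (principalBlock M (centralizer ((P : Subgroup G) : Set G))) (principalBlock M G) :=
    (S0936.result p M hM _ _ hdef).2 rfl
  obtain ⟨z, h⟩ := H653.CycFinal.exists_hyp hM hcyc hn0 hn hBD hind
  obtain ⟨e, he⟩ : ∃ e, (centralizer ((P : Subgroup G) : Set G)).relIndex
      (H651.idxStab ⟨(P : Subgroup G), principalBlock M (centralizer ((P : Subgroup G) : Set G))⟩) = e := ⟨_, rfl⟩
  obtain ⟨hep, hm, he0⟩ := H653.CycFinal.dvd_and h hn he
  obtain ⟨hht, -⟩ := H653.CycHeight.main h (n := n) hn he hm he0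
  exact hht χ hχ

/-- **Cyclic Sylow `p`-subgroups and a character of degree divisible by `p`.** -/
theorem NB.of_cyclic_IM {G : Type u} [Group G] [Finite G] {p : ℕ} [hp : Fact p.Prime] (h : H33.IM p G)
    (P : Sylow p G) (hcyc : IsCyclic (P : Subgroup G)) : NB p G := by
  intro M hM
  obtain ⟨χ, hχ⟩ := h
  exact ⟨χ, fun hmem => not_dvd_degree_of_cyclic hM P hcyc hmem hχ⟩

end Cfsg.Agent.H368.NBSq
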